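import Mathlib
import Cfsg.Agent.Transfer.IndexPrimeTo
import Cfsg.Agent.Coprime.Sylow
import Cfsg.Agent.Coprime.PComplementPSolvable
import Cfsg.Agent.SolvStruct.SylowFifteen

/-!
# Small numbers of Sylow subgroups in `p`-solvable groups
-/

set_option autoImplicit false
set_option linter.unusedSectionVars false

namespace Cfsg.Lib.SolvStruct.SylowNumber

open scoped Pointwise

universe u

variable {p : ℕ} [Fact p.Prime]

/-- The number of Sylow subgroups of a quotient and of the preimage of a normalizer. -/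
theorem card_sylow_eq {G : Type u} [Group G] [Finite G] (N : Subgroup G) [N.Normal] (P : Sylow p G) :
    ∃ J : Subgroup G, (P : Subgroup G) ≤ J ∧ N ≤ J ∧
      J.index = Nat.card (Sylow p (G ⧸ N)) ∧
      Nat.card (Sylow p G) = Nat.card (Sylow p J) * J.index := by
  set π := QuotientGroup.mk' N
  have hπ : Function.Surjective π := QuotientGroup.mk'_surjective N
  set R := P.mapSurjective hπ
  set J := (Subgroup.normalizer ((R : Subgroup (G ⧸ N)) : Set (G ⧸ N))).comap π with hJ
  have hle : Subgroup.normalizer ((P : Subgroup G) : Set G) ≤ J :=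
    Subgroup.map_le_iff_le_comap.1 (Subgroup.le_normalizer_map π)
  have hPJ : (P : Subgroup G) ≤ J := Subgroup.le_normalizer.trans hle
  have hNJ : N ≤ J := fun x hx => by
    rw [hJ, Subgroup.mem_comap, show π x = 1 from (QuotientGroup.eq_one_iff x).2 hx]
    exact one_mem _
  have hidx : J.index = Nat.card (Sylow p (G ⧸ N)) := by
    rw [hJ, Subgroup.index_comap_of_surjective _ hπ]
    exact R.card_eq_index_normalizer.symm
  refine ⟨J, hPJ, hNJ, hidx, ?_⟩
  have h1 : (Subgroup.normalizer ((P : Subgroup G) : Set G)).subgroupOf J =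
      Subgroup.normalizer (((P : Subgroup G).subgroupOf J : Subgroup J) : Set J) :=
    Subgroup.subgroupOf_normalizer_eq hPJ
  have h2 : Nat.card (Sylow p J) = (Subgroup.normalizer ((P : Subgroup G) : Set G)).relIndex J := by
    rw [Subgroup.relIndex, h1]
    exact (P.subtype hPJ).card_eq_index_normalizer
  rw [h2, Subgroup.relIndex_mul_index hle]
  exact P.card_eq_index_normalizer

theorem card_sylow_quotient_dvd {G : Type u} [Group G] [Finite G] (N : Subgroup G) [N.Normal] :
    Nat.card (Sylow p (G ⧸ N)) ∣ Nat.card (Sylow p G) := by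
  obtain ⟨P⟩ : Nonempty (Sylow p G) := inferInstance
  obtain ⟨J, -, -, hidx, h⟩ := card_sylow_eq N P
  exact ⟨Nat.card (Sylow p J), by rw [h, hidx, mul_comm]⟩

theorem card_sylow_normal_dvd {G : Type u} [Group G] [Finite G] (N : Subgroup G) [N.Normal] :
    Nat.card (Sylow p N) ∣ Nat.card (Sylow p G) := by
  obtain ⟨P⟩ : Nonempty (Sylow p G) := inferInstance
  obtain ⟨U, hU⟩ := Cfsg.Lib.Transfer.exists_sylow_subgroupOf P N
  set X := (P : Subgroup G) ⊓ N with hX
  have hle : Subgroup.normalizer ((P : Subgroup G) : Set G) ≤ Subgroup.normalizer (X : Set G) :=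
    Cfsg.Lib.Coprime.le_normalizer_inf le_rfl Subgroup.le_normalizer_of_normal
  have h1 : (Subgroup.normalizer (X : Set G)).subgroupOf N =
      Subgroup.normalizer ((X.subgroupOf N : Subgroup N) : Set N) :=
    Subgroup.subgroupOf_normalizer_eq inf_le_right
  have h2 : Nat.card (Sylow p N) = (Subgroup.normalizer (X : Set G)).relIndex N := by
    rw [Subgroup.relIndex, h1, hX, Subgroup.inf_subgroupOf_right, ← hU]
    exact U.card_eq_index_normalizer
  rw [h2]
  have h3 : (Subgroup.normalizer (X : Set G)).relIndex N ∣ (Subgroup.normalizer (X : Set G)).index := by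
    set H := Subgroup.normalizer (X : Set G)
    have h4 := Cfsg.Lib.Coprime.card_sup_mul_card_inf (N := N) (H := H) Subgroup.le_normalizer_of_normal
    have hcm : ∀ {A B : Subgroup G}, A ≤ B → Nat.card A * A.relIndex B = Nat.card B := fun {A B} h => by
      rw [← Subgroup.relIndex_bot_left, Subgroup.relIndex_mul_relIndex _ _ _ bot_le h,
        Subgroup.relIndex_bot_left]
    have e1 := hcm (inf_le_left : N ⊓ H ≤ N)
    have e2 := hcm (le_sup_right : H ≤ N ⊔ H)
    rw [Subgroup.inf_relIndex_left] at e1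
    rw [← e1, ← e2] at h4
    rw [show H.relIndex N = H.relIndex (N ⊔ H) from (Nat.eq_of_mul_eq_mul_left
      (Nat.mul_pos (Nat.card_pos (α := H)) (Nat.card_pos (α := (N ⊓ H : Subgroup G))))
      (by linarith [h4])).symm]
    exact Subgroup.relIndex_dvd_index_of_le le_sup_right
  refine h3.trans ?_
  rw [show Nat.card (Sylow p G) = (Subgroup.normalizer ((P : Subgroup G) : Set G)).index from
    P.card_eq_index_normalizer]
  exact Subgroup.index_dvd_of_le hle

/-- A divisor other than `1` which is congruent to `1` is at least `p + 1`. -/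
theorem succ_le_of_mod_eq_one {k : ℕ} (h : k % p = 1) (h1 : k ≠ 1) : p + 1 ≤ k := by
  have h2 := Nat.div_add_mod k p
  rcases Nat.eq_zero_or_pos (k / p) with h3 | h3
  · rw [h3] at h2
    omega
  · have : p * 1 ≤ p * (k / p) := Nat.mul_le_mul_left p h3
    omega

theorem card_sylow_mod (G : Type u) [Group G] [Finite G] : Nat.card (Sylow p G) % p = 1 := by
  have h : Nat.card (Sylow p G) % p = 1 % p := card_sylow_modEq_one p G
  rwa [Nat.mod_eq_of_lt (Fact.out : p.Prime).one_lt] at h

/-- The prime parts of the number of Sylow subgroups of `N P`, for `N` of order prime to `p`. -/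
theorem exists_factor {G : Type u} [Group G] [Finite G] (N : Subgroup G) [N.Normal]
    (hN : ¬ p ∣ Nat.card N) (P : Sylow p G) (hsup : N ⊔ Subgroup.normalizer ((P : Subgroup G) : Set G) = ⊤)
    {q : ℕ} (hq : q.Prime) (hqn : q ∣ Nat.card (Sylow p G)) :
    ∃ a : ℕ, 0 < a ∧ q ^ a ∣ Nat.card (Sylow p G) ∧ p + 1 ≤ q ^ a := by
  have hp := (Fact.out : p.Prime)
  have : Fact q.Prime := ⟨hq⟩
  set NP := Subgroup.normalizer ((P : Subgroup G) : Set G)
  set C := N ⊓ NP with hC
  have hmul : Nat.card N = Nat.card (Sylow p G) * Nat.card C := by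
    have h1 := Cfsg.Lib.Coprime.card_sup_mul_card_inf (N := N) (H := NP) Subgroup.le_normalizer_of_normal
    rw [hsup, Subgroup.card_top] at h1
    have h2 := NP.card_mul_index
    rw [show NP.index = Nat.card (Sylow p G) from P.card_eq_index_normalizer.symm] at h2
    refine Nat.eq_of_mul_eq_mul_left (Nat.card_pos (α := NP)) ?_
    rw [← h2] at h1
    rw [mul_comm _ (Nat.card N), ← h1, hC]
    ring
  have hAK : (P : Subgroup G) ≤ Subgroup.normalizer (N : Set G) := Subgroup.le_normalizer_of_normal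
  have hcop : (Nat.card (P : Subgroup G)).Coprime (Nat.card N) := by
    obtain ⟨j, hj⟩ := P.2.exists_card_eq
    rw [hj]
    exact ((hp.coprime_iff_not_dvd.2 hN)).pow_left j
  have hcomm : ∀ c ∈ C, ∀ a ∈ (P : Subgroup G), (a : G) * c * a⁻¹ = c := by
    intro c hc a ha
    have h1 : c * a * c⁻¹ * a⁻¹ ∈ N ⊓ (P : Subgroup G) := by
      refine ⟨?_, (P : Subgroup G).mul_mem ((Subgroup.mem_set_normalizer_iff.1 hc.2 a).1 ha) ((P : Subgroup G).inv_mem ha)⟩
      rw [show c * a * c⁻¹ * a⁻¹ = c * (a * c⁻¹ * a⁻¹) by group]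
      exact mul_mem hc.1 ((inferInstance : N.Normal).conj_mem _ (inv_mem hc.1) a)
    rw [Cfsg.Lib.Coprime.inf_eq_bot_of_coprime hcop.symm, Subgroup.mem_bot, mul_inv_eq_one,
      mul_inv_eq_iff_eq_mul] at h1
    rw [← h1, mul_inv_cancel_right]
  obtain ⟨R₀⟩ : Nonempty (Sylow q C) := inferInstance
  set R := (R₀ : Subgroup C).map C.subtype with hR
  have hRC : R ≤ C := Subgroup.map_subtype_le _
  have hRA : (P : Subgroup G) ≤ Subgroup.normalizer (R : Set G) := fun a ha => by
    refine Subgroup.mem_set_normalizer_iff.2 fun g => ⟨fun hg => ?_, fun hg => ?_⟩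
    · rw [hcomm g (hRC hg) a ha]
      exact hg
    · have h1 : g = a⁻¹ * (a * g * a⁻¹) * (a⁻¹)⁻¹ := by group
      rw [h1, hcomm _ (hRC hg) _ (inv_mem ha)]
      exact hg
  have := P.2.isNilpotent
  obtain ⟨Q₀, hRQ, hQA⟩ := Cfsg.Lib.Coprime.exists_invariant_sylow_ge hAK hcop (Or.inl inferInstance) q
    (hRC.trans inf_le_left) (R₀.2.map _) hRA
  set Q := (Q₀ : Subgroup N).map N.subtype with hQ
  have hQN : Q ≤ N := Subgroup.map_subtype_le _
  have hQR : Q ⊓ C = R := by
    have h1 : IsPGroup q ↥((Q ⊓ C).subgroupOf C) :=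
      ((Q₀.2.map N.subtype).to_le (inf_le_left : Q ⊓ C ≤ Q)).comap_subtype
    have h2 := R₀.is_maximal' h1 (fun x hx =>
      Subgroup.mem_subgroupOf.2 ⟨hRQ (Subgroup.mem_map_of_mem _ hx), x.2⟩)
    rw [hR, ← h2, Subgroup.subgroupOf_map_subtype, inf_assoc, inf_idem]
  let _ : MulAction (P : Subgroup G) Q :=
    { smul := fun a s => ⟨(a : G) * s * (a : G)⁻¹, (Subgroup.mem_set_normalizer_iff.1 (hQA a.2) _).1 s.2⟩
      one_smul := fun s => Subtype.ext (by show (1 : G) * s * 1⁻¹ = s; simp)
      mul_smul := fun a b s => Subtype.ext (by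
        show ((a : G) * b) * s * ((a : G) * b)⁻¹ = (a : G) * ((b : G) * s * (b : G)⁻¹) * (a : G)⁻¹
        group) }
  have hmod := P.2.card_modEq_card_fixedPoints Q
  have hfix : Nat.card (MulAction.fixedPoints (P : Subgroup G) Q) = Nat.card R := by
    rw [← hQR]
    refine Nat.card_congr ⟨fun s => ⟨(s.1 : G), s.1.2, hQN s.1.2,
      Subgroup.centralizer_le_normalizer _ ?_⟩,
      fun s => ⟨⟨s, s.2.1⟩, ?_⟩, fun s => rfl, fun s => rfl⟩
    · intro a ha
      exact (mul_inv_eq_iff_eq_mul.1 (congrArg Subtype.val (s.2 ⟨a, ha⟩)))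
    · intro a
      exact Subtype.ext (hcomm s s.2.2 a a.2)
  rw [hfix] at hmod
  set mN := (Nat.card N).factorization q
  set mC := (Nat.card C).factorization q
  have hQc : Nat.card Q = q ^ mN := by
    rw [hQ, Subgroup.card_map_of_injective N.subtype_injective, Q₀.card_eq_multiplicity]
  have hRc : Nat.card R = q ^ mC := by
    rw [hR, Subgroup.card_map_of_injective C.subtype_injective, R₀.card_eq_multiplicity]
  have hm : mN = (Nat.card (Sylow p G)).factorization q + mC := by
    show (Nat.card N).factorization q = _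
    rw [hmul, Nat.factorization_mul Nat.card_pos.ne' Nat.card_pos.ne', Finsupp.add_apply]
  set a := (Nat.card (Sylow p G)).factorization q
  have ha : 0 < a := hq.factorization_pos_of_dvd Nat.card_pos.ne' hqn
  refine ⟨a, ha, Nat.ordProj_dvd _ q, succ_le_of_mod_eq_one ?_ (Nat.one_lt_pow ha.ne' hq.one_lt).ne'⟩
  rw [hQc, hRc, hm, pow_add] at hmod
  have hcq : Nat.Coprime p (q ^ mC) := by
    refine Nat.Coprime.coprime_dvd_right ?_ (hp.coprime_iff_not_dvd.2 hN)
    rw [← hRc]
    exact Subgroup.card_dvd_of_le (hRC.trans inf_le_left)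
  have h3 : q ^ a ≡ 1 [MOD p] := Nat.ModEq.cancel_right_of_coprime hcq (by rw [one_mul]; exact hmod)
  rwa [Nat.ModEq, Nat.mod_eq_of_lt hp.one_lt] at h3

/-- In a `p`-solvable group a number of Sylow subgroups below `p ^ 2` is a prime power. -/
theorem prime_pow_of_solvable : ∀ (n : ℕ) (G : Type u) [Group G] [Finite G], Nat.card G = n →
    Cfsg.IsPSolvable p G → Nat.card (Sylow p G) < p ^ 2 →
    ∃ q k : ℕ, q.Prime ∧ Nat.card (Sylow p G) = q ^ k := by
  intro n
  induction n using Nat.strong_induction_on with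
  | _ n ih =>
  intro G _ _ hn hsol hlt
  have hp := (Fact.out : p.Prime)
  by_cases hne1 : Nat.card (Sylow p G) = 1
  · exact ⟨2, 0, Nat.prime_two, by rw [hne1, pow_zero]⟩
  have hnt : Nontrivial G := by
    by_contra h
    rw [not_nontrivial_iff_subsingleton] at h
    exact hne1 (Nat.card_eq_one_iff_unique.2
      ⟨⟨fun X Y => Sylow.ext (Subsingleton.elim _ _)⟩, inferInstance⟩)
  obtain ⟨N, hNn, hN1, hN⟩ := Cfsg.Lib.Coprime.exists_normal_p_or_prime G hsol
  obtain ⟨P⟩ : Nonempty (Sylow p G) := inferInstance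
  obtain ⟨J, hPJ, hNJ, hidx, hprod⟩ := card_sylow_eq N P
  have hJ : Nat.card (Sylow p J) = 1 ∨ J.index = 1 := by
    by_contra hcon
    push Not at hcon
    have h1 := Nat.mul_le_mul (succ_le_of_mod_eq_one (card_sylow_mod J) hcon.1)
      (succ_le_of_mod_eq_one (hidx ▸ card_sylow_mod (p := p) (G ⧸ N)) hcon.2)
    rw [← hprod] at h1
    nlinarith
  rcases hJ with hJ | hJ
  · rw [hJ, one_mul, hidx] at hprod
    rw [hprod]
    exact ih _ (hn ▸ Cfsg.Lib.Coprime.card_quotient_lt hN1) (G ⧸ N) rfl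
      (Cfsg.Lib.GaschutzYen.isPSolvable_quotient N hsol) (hprod ▸ hlt)
  -- the image of `P` is normal
  set π := QuotientGroup.mk' N
  have hπ : Function.Surjective π := QuotientGroup.mk'_surjective N
  set R := P.mapSurjective hπ with hR
  rw [hidx] at hJ
  have hRn : (R : Subgroup (G ⧸ N)).Normal := by
    have := (Nat.card_eq_one_iff_unique.1 hJ).1
    exact Sylow.normal_of_subsingleton R
  set M := (R : Subgroup (G ⧸ N)).comap π with hM
  have hMn : M.Normal := hRn.comap π
  have hMeq : M = (P : Subgroup G) ⊔ N := by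
    rw [hM, hR, Sylow.coe_mapSurjective, Subgroup.comap_map_eq, QuotientGroup.ker_mk']
  have hPM : (P : Subgroup G) ≤ M := hMeq ▸ le_sup_left
  have hfr : Subgroup.normalizer ((P : Subgroup G) : Set G) ⊔ M = ⊤ :=
    Sylow.normalizer_sup_eq_top' P hPM
  rw [hMeq, ← sup_assoc, sup_of_le_left (Subgroup.le_normalizer (H := (P : Subgroup G))), sup_comm] at hfr
  rcases hN with hNp | hNp
  · refine absurd (Nat.card_eq_one_iff_unique.2 ⟨⟨fun X Y => ?_⟩, inferInstance⟩) hne1
    have hle : ∀ X : Sylow p G, N ≤ X := fun X => hNp.le_sylow_of_normal X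
    have hMX : ∀ X : Sylow p G, M = (X : Subgroup G) := fun X => by
      have h1 : ((X.mapSurjective hπ : Sylow p (G ⧸ N)) : Subgroup (G ⧸ N)) = R := by
        have := (Nat.card_eq_one_iff_unique.1 hJ).1
        rw [Subsingleton.elim (X.mapSurjective hπ) R]
      rw [hM, ← h1, Sylow.coe_mapSurjective, Subgroup.comap_map_eq, QuotientGroup.ker_mk',
        sup_of_le_left (hle X)]
    exact Sylow.ext ((hMX X).symm.trans (hMX Y))
  obtain ⟨q, hq, hqd⟩ := Nat.exists_prime_and_dvd hne1
  obtain ⟨a, -, hqa, hpa⟩ := exists_factor N hNp P hfr hq hqd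
  refine ⟨q, (Nat.card (Sylow p G)).factorization q, hq, ?_⟩
  refine Nat.eq_pow_of_factorization_eq_single Nat.card_pos.ne' ?_
  refine Finsupp.ext fun r => ?_
  by_cases hr : r = q
  · subst hr
    rw [Finsupp.single_eq_same]
  rw [Finsupp.single_eq_of_ne hr]
  by_contra hne
  have hrp : r.Prime := Nat.prime_of_mem_primeFactors (by
    rw [← Nat.support_factorization]; exact Finsupp.mem_support_iff.2 hne)
  have hrd : r ∣ Nat.card (Sylow p G) := Nat.dvd_of_factorization_pos hne
  obtain ⟨b, -, hrb, hpb⟩ := exists_factor N hNp P hfr hrp hrd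
  have hcop : Nat.Coprime (q ^ a) (r ^ b) :=
    Nat.Coprime.pow _ _ ((Nat.coprime_primes hq hrp).2 (Ne.symm hr))
  have h1 := Nat.le_of_dvd Nat.card_pos (hcop.mul_dvd_of_dvd_of_dvd hqa hrb)
  have h2 := Nat.mul_le_mul hpa hpb
  nlinarith

end Cfsg.Lib.SolvStruct.SylowNumber
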