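import Mathlib
import Cfsg.Agent.SolvStruct.SylowNumber.Basic
import Cfsg.Agent.Blocks.SylowCount.Main
import Cfsg.Agent.Blocks.BrauerTuan.Main
import Cfsg.Agent.Classical.Misc.SmallPSL
import Cfsg.Agent.Classical.Misc.SLTwoTori
import Cfsg.Agent.Small.Brodkey
import Cfsg.Agent.Components.Signalizer.Sft.Tools
import Cfsg.Agent.Components.CyclicPair.Reduction

/-!
# Few Sylow subgroups in a simple group
-/

set_option autoImplicit false
set_option linter.unusedSectionVars false

namespace Cfsg.Lib.SolvStruct.SylowNumber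

open Cfsg.Lib.Blocks.SylowCount
open scoped Pointwise

universe u

variable {p : ℕ} [Fact p.Prime]

theorem dvd_of_pow_eq_mul {q k A B : ℕ} (hq : q.Prime) (h : q ^ k = A * B) (hAB : A ≤ B) : A ∣ B := by
  obtain ⟨i, -, hi⟩ := (Nat.dvd_prime_pow hq).1 (Dvd.intro B h.symm)
  obtain ⟨j, -, hj⟩ := (Nat.dvd_prime_pow hq).1 (Dvd.intro_left A h.symm)
  rw [hi, hj] at hAB ⊢
  exact pow_dvd_pow q ((Nat.pow_le_pow_iff_right hq.one_lt).1 hAB)

/-- The exceptional form of `m < p` does not give a prime power. -/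
theorem not_prime_pow_of_fform {m : ℕ} (hm : m < p) (hF : FForm p m) {q k : ℕ} (hq : q.Prime) :
    1 + m * p ≠ q ^ k := by
  obtain ⟨h, u, h0, hu, hEq⟩ := hF
  intro hN
  have hp2 := (Fact.out : p.Prime).two_le
  have h1 : h = 1 := by
    have h2 : m * (u + 1) < p * (u + 1) := Nat.mul_lt_mul_of_pos_right hm (by omega)
    have h3 : h * u * p < (u + 1) * p := by rw [mul_comm (u + 1) p]; omega
    have h4 : h * u < u + 1 := Nat.lt_of_mul_lt_mul_right h3
    have h5 : h * u ≤ 1 * u := by omega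
    have := Nat.le_of_mul_le_mul_right h5 hu
    omega
  subst h1
  rw [one_mul] at hEq
  have hd : (u + 1) ∣ (p - 1) := by
    have h2 : ((u + 1 : ℕ) : ℤ) ∣ ((p - 1 : ℕ) : ℤ) := by
      refine ⟨-((m : ℤ)) + p + u, ?_⟩
      have h3 : ((m : ℤ)) * ((u : ℤ) + 1) = u * p + u ^ 2 + u + 1 := by exact_mod_cast hEq
      rw [Nat.cast_sub (by omega)]
      push_cast
      linear_combination h3
    exact Int.natCast_dvd_natCast.1 h2
  obtain ⟨j, hj⟩ := hd
  have hp' : p = (u + 1) * j + 1 := by omega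
  have hm' : m = u * j + u + 1 := by
    refine Nat.eq_of_mul_eq_mul_right (Nat.succ_pos u) ?_
    rw [hEq, hp', Nat.succ_eq_add_one]
    ring
  have huj : u < j := by
    by_contra hle
    have : (u + 1) * j + 1 ≤ u * j + u + 1 := by
      rw [add_mul, one_mul]
      omega
    omega
  have hfac : q ^ k = (u * j + 1) * ((u + 1) * j + u + 2) := by
    rw [← hN, hm', hp']
    ring
  have hle : u * j + 1 ≤ (u + 1) * j + u + 2 := by rw [add_mul]; omega
  have hdvd := dvd_of_pow_eq_mul hq hfac hle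
  have h2 : u * j + 1 ∣ j + u + 1 := by
    rw [show (u + 1) * j + u + 2 = (u * j + 1) + (j + u + 1) by ring] at hdvd
    exact (Nat.dvd_add_right dvd_rfl).1 hdvd
  rcases Nat.lt_or_ge u 2 with h3 | h3
  · obtain rfl : u = 1 := by omega
    rw [one_mul, show j + 1 + 1 = (j + 1) + 1 from rfl] at h2
    have := Nat.dvd_one.1 ((Nat.dvd_add_right dvd_rfl).1 h2)
    omega
  · have h4 := Nat.le_of_dvd (by omega) h2
    have h5 : (u - 2) * j + 2 * j = u * j := by rw [← add_mul, Nat.sub_add_cancel h3]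
    rcases Nat.eq_zero_or_pos (u - 2) with h6 | h6
    · obtain rfl : u = 2 := by omega
      omega
    · have : j * 1 ≤ j * (u - 2) := Nat.mul_le_mul_left j h6
      rw [mul_comm (u - 2)] at h5
      omega

/-- A nonabelian simple group has no small prime power number of Sylow subgroups. -/
theorem false_of_simple {G : Type u} [Group G] [Finite G] [IsSimpleGroup G] (hG : ¬ IsCyclic G)
    (hp : ¬ (3 < p ∧ ∃ k : ℕ, p + 1 = 2 ^ k)) (hdvd : p ∣ Nat.card G)
    (hlt : Nat.card (Sylow p G) < p ^ 2) {q k : ℕ} (hq : q.Prime)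
    (hn : Nat.card (Sylow p G) = q ^ k) : False := by
  classical
  have hpr := (Fact.out : p.Prime)
  have hperf := Cfsg.Lib.Blocks.BrauerTuan.perfect_of_simple hG
  have hnot : ∀ N : Subgroup G, N.Normal → IsPGroup p N → N = ⊥ := fun N hN hNp => by
    refine hN.eq_bot_or_eq_top.resolve_right fun htop => ?_
    rw [htop] at hNp
    have := (hNp.of_equiv Subgroup.topEquiv).isNilpotent
    have hsol : Group.IsSolvable G := inferInstance
    have hcomm := IsSimpleGroup.comm_iff_isSolvable.2 hsol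
    have : Fact (Nat.card G).Prime := ⟨by
      let _ : CommGroup G := { ‹Group G› with mul_comm := hcomm }
      exact IsSimpleGroup.prime_card⟩
    exact hG (isCyclic_of_prime_card (p := Nat.card G) rfl)
  -- every Sylow subgroup meets `P` in index `p`
  have hidx : ∀ P R : Sylow p G, P ≠ R → ((R : Subgroup G).subgroupOf (P : Subgroup G)).index = p := by
    intro P R hne
    obtain ⟨j, hj⟩ := P.2.index ((R : Subgroup G).subgroupOf (P : Subgroup G))
    rcases j with _ | _ | j
    · refine absurd ?_ hne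
      rw [pow_zero, Subgroup.index_eq_one, Subgroup.subgroupOf_eq_top] at hj
      exact Sylow.ext (P.is_maximal' R.2 hj).symm
    · rw [hj, pow_one]
    · exfalso
      have hst : MulAction.stabilizer (P : Subgroup G) R = (R : Subgroup G).subgroupOf (P : Subgroup G) := by
        ext a
        rw [MulAction.mem_stabilizer_iff, Subgroup.mem_subgroupOf]
        change (a : G) • R = R ↔ _
        rw [Sylow.smul_eq_iff_mem_normalizer]
        refine ⟨fun ha => ?_, fun ha => Subgroup.le_normalizer ha⟩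
        have : (a : G) ∈ (P : Subgroup G) ⊓ R := by
          rw [← P.2.inf_normalizer_sylow R]
          exact ⟨a.2, ha⟩
        exact this.2
      have h1 : (MulAction.stabilizer (P : Subgroup G) R).index ≤ Nat.card (Sylow p G) := by
        rw [MulAction.index_stabilizer]
        exact Finite.card_subtype_le _
      rw [hst, hj] at h1
      have h2 : p ^ 2 ≤ p ^ (j + 1 + 1) := Nat.pow_le_pow_right hpr.pos (by omega)
      omega
  -- the Sylow subgroups are commutative
  have hinf : (⨅ R : Sylow p G, (R : Subgroup G)) = ⊥ := by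
    obtain ⟨P⟩ : Nonempty (Sylow p G) := inferInstance
    refine hnot _ ⟨fun x hx g => ?_⟩ (P.2.to_le (iInf_le _ P))
    rw [Subgroup.mem_iInf] at hx ⊢
    intro R
    have h1 := hx (g⁻¹ • R)
    rw [Sylow.coe_subgroup_smul, Subgroup.mem_pointwise_smul_iff_inv_smul_mem] at h1
    simpa [MulAut.smul_def, mul_assoc] using h1
  have hab : ∀ P : Sylow p G, IsMulCommutative ↥(P : Subgroup G) := by
    intro P
    refine ⟨⟨fun a b => ?_⟩⟩
    have hmem : ((a * b * a⁻¹ * b⁻¹ : (P : Subgroup G)) : G) ∈ ⨅ R : Sylow p G, (R : Subgroup G) := by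
      rw [Subgroup.mem_iInf]
      intro R
      by_cases hPR : P = R
      · subst hPR
        exact (a * b * a⁻¹ * b⁻¹).2
      · set X := (R : Subgroup G).subgroupOf (P : Subgroup G) with hX
        have hXi : X.index = p := hidx P R hPR
        have : X.Normal := Subgroup.normal_of_index_eq_minFac_card (by
          obtain ⟨e, he⟩ := P.2.exists_card_eq
          have he0 : e ≠ 0 := fun e0 => by
            have h1 := X.index_dvd_card
            rw [hXi, he, e0, pow_zero] at h1
            exact hpr.ne_one (Nat.dvd_one.1 h1)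
          rw [hXi, he, hpr.pow_minFac he0])
        have : IsCyclic ((P : Subgroup G) ⧸ X) := isCyclic_of_prime_card (p := p)
          (by rw [← Subgroup.index_eq_card, hXi])
        have h2 : ((a * b * a⁻¹ * b⁻¹ : (P : Subgroup G)) : (P : Subgroup G) ⧸ X) = 1 := by
          let _ : CommGroup ((P : Subgroup G) ⧸ X) := IsCyclic.commGroup
          simp only [QuotientGroup.mk_mul, QuotientGroup.mk_inv]
          rw [mul_comm (a : (P : Subgroup G) ⧸ X) b, mul_inv_cancel_right, mul_inv_cancel]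
        exact Subgroup.mem_subgroupOf.1 ((QuotientGroup.eq_one_iff _).1 h2)
    rw [hinf, Subgroup.mem_bot] at hmem
    have h3 : a * b * a⁻¹ * b⁻¹ = 1 := Subtype.ext hmem
    rwa [mul_inv_eq_one, mul_inv_eq_iff_eq_mul] at h3
  obtain ⟨P, Q, hPQ⟩ := Cfsg.Lib.Small.exists_inf_eq_iInf p hab
  rw [hinf] at hPQ
  have hne : P ≠ Q := fun e => by
    rw [← e, inf_idem] at hPQ
    exact P.ne_bot_of_dvd_card hdvd hPQ
  have hPp : Nat.card (P : Subgroup G) = p := by
    have h1 := hidx P Q hne
    rwa [← Subgroup.inf_subgroupOf_left, hPQ, Subgroup.bot_subgroupOf, Subgroup.index_bot] at h1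
  set n := Nat.card (Sylow p G) with hndef
  have hmod : n % p = 1 := card_sylow_mod (p := p) G
  obtain ⟨m, hm⟩ : ∃ m, n = 1 + m * p :=
    ⟨n / p, by have := Nat.div_add_mod n p; rw [mul_comm] at this; omega⟩
  have hn1 : n ≠ 1 := fun e => by
    have : Subsingleton (Sylow p G) := (Nat.card_eq_one_iff_unique.1 e).1
    exact P.ne_bot_of_dvd_card hdvd (hnot _ (Sylow.normal_of_subsingleton P) P.2)
  have hm0 : 0 < m := Nat.pos_of_ne_zero fun e => hn1 (by rw [hm, e, zero_mul, add_zero])
  have hmp : m < p := by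
    by_contra hle
    have : p * p ≤ m * p := Nat.mul_le_mul_right p (not_lt.1 hle)
    rw [pow_two] at hlt
    omega
  have hK : Cfsg.pPrimeCore p G = ⊥ := by
    refine (Cfsg.Lib.Components.pPrimeCore_normal' (G := G) p).eq_bot_or_eq_top.resolve_right fun e => ?_
    have h1 := Cfsg.Lib.Components.coprime_card_pPrimeCore (G := G) p
    rw [e, Subgroup.card_top] at h1
    exact hpr.not_dvd_one (Nat.eq_one_of_dvd_coprimes h1 hdvd dvd_rfl ▸ dvd_rfl)
  have hG' : Nat.card (G ⧸ Cfsg.pPrimeCore p G) = Nat.card G :=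
    Nat.card_congr ((QuotientGroup.quotientMulEquivOfEq hK).trans QuotientGroup.quotientBot).toEquiv
  have hndvd : n * p ∣ Nat.card G := by
    have h1 := Subgroup.card_mul_index (Subgroup.normalizer ((P : Subgroup G) : Set G))
    rw [show (Subgroup.normalizer ((P : Subgroup G) : Set G)).index = n from
      P.card_eq_index_normalizer.symm] at h1
    rw [← h1, mul_comm n]
    have h2 := Subgroup.card_dvd_of_le (Subgroup.le_normalizer (H := (P : Subgroup G)))
    rw [hPp] at h2
    exact Nat.mul_dvd_mul_right h2 n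
  rcases Cfsg.Lib.Blocks.SylowCount.main hperf P hPp m hm with
    ⟨F, _, _, hF, hp3, ⟨e⟩⟩ | ⟨a, F, _, _, hF, hpa, hp3, ⟨e⟩⟩ | hFF
  · -- `PSL₂(p)`
    have hodd : p % 2 = 1 := hpr.eq_two_or_odd.resolve_left (by omega)
    have h1 := Cfsg.Lib.Classical.SmallPSL.card_psl hF
    rw [← Nat.card_congr e.toEquiv, hG', show Nat.gcd 2 (p - 1) = 2 by
      rw [Nat.gcd_eq_left_iff_dvd]; omega] at h1
    have h2 : n * p ∣ p * (p ^ 2 - 1) := h1 ▸ hndvd.mul_left 2
    rw [mul_comm n] at h2
    obtain ⟨c, hc⟩ := Nat.dvd_of_mul_dvd_mul_left hpr.pos h2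
    have hcp : (p : ℤ) ∣ (c : ℤ) + 1 := by
      refine ⟨(p : ℤ) - m * c, ?_⟩
      have h3 : ((p : ℤ)) ^ 2 - 1 = (1 + m * p) * c := by
        rw [hm] at hc
        have h4 : (((p ^ 2 - 1 : ℕ)) : ℤ) = (((1 + m * p) * c : ℕ) : ℤ) := by exact_mod_cast hc
        rw [Nat.cast_sub (Nat.one_le_pow _ _ hpr.pos)] at h4
        push_cast at h4
        exact h4
      linear_combination -h3
    have hc0 : 0 < c := Nat.pos_of_ne_zero fun e0 => by
      rw [e0, mul_zero, pow_two] at hc
      have : 2 * 2 ≤ p * p := Nat.mul_le_mul hpr.two_le hpr.two_le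
      omega
    have hcge : p - 1 ≤ c := by
      have := Int.le_of_dvd (by omega) hcp
      omega
    have hnp : n = p + 1 := by
      have h3 : n * (p - 1) ≤ (p + 1) * (p - 1) := by
        rw [← Nat.sq_sub_sq, one_pow, hc]
        exact Nat.mul_le_mul_left n hcge
      have h4 : n ≤ p + 1 := Nat.le_of_mul_le_mul_right h3 (by omega)
      have := succ_le_of_mod_eq_one hmod hn1
      omega
    rw [hn] at hnp
    have hq2 : q = 2 := by
      rcases Nat.eq_zero_or_pos k with hk | hk
      · rw [hk, pow_zero] at hnp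
        omega
      · refine ((Nat.prime_dvd_prime_iff_eq Nat.prime_two hq).1 (Nat.prime_two.dvd_of_dvd_pow
          (show 2 ∣ q ^ k by rw [hnp]; omega))).symm
    exact hp ⟨hp3, k, by rw [← hnp, hq2]⟩
  · -- `SL₂(2ᵃ)`
    have h1 : Nat.card G = 2 ^ a * ((2 ^ a) ^ 2 - 1) := by
      rw [← hG', Nat.card_congr e.toEquiv, Cfsg.Lib.Classical.SLTwoTori.card_SL2, hF]
    have ha2 : 4 ≤ 2 ^ a := by
      rcases a with _ | _ | a
      · norm_num at hpa; omega
      · norm_num at hpa; omega
      · calc 4 = 2 ^ 2 := rfl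
          _ ≤ 2 ^ (a + 1 + 1) := Nat.pow_le_pow_right (by norm_num) (by omega)
    set F2 := 2 ^ a with hF2
    have h2 : n * p ∣ F2 * (F2 - 1) * p := by
      have : F2 * (F2 - 1) * p = F2 * (F2 ^ 2 - 1) := by
        rw [show F2 ^ 2 - 1 = F2 ^ 2 - 1 ^ 2 from rfl, Nat.sq_sub_sq, hpa]
        ring
      rw [this, ← h1]
      exact hndvd
    obtain ⟨c, hc⟩ := Nat.dvd_of_mul_dvd_mul_right hpr.pos h2
    have hc3 : (F2 : ℤ) * ((F2 : ℤ) - 1) = (1 + m * p) * c := by
      rw [hm] at hc
      have h4 : ((F2 * (F2 - 1) : ℕ) : ℤ) = (((1 + m * p) * c : ℕ) : ℤ) := by exact_mod_cast hc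
      rw [Nat.cast_mul, Nat.cast_sub (by omega)] at h4
      push_cast at h4
      exact h4
    have hpF : (p : ℤ) = (F2 : ℤ) + 1 := by exact_mod_cast hpa
    have hcp : (p : ℤ) ∣ (c : ℤ) - 2 := by
      refine ⟨(F2 : ℤ) - 2 - m * c, ?_⟩
      rw [hpF] at hc3 ⊢
      linear_combination -hc3
    have hc2 : c = 2 := by
      have hc0 : 0 < c := Nat.pos_of_ne_zero fun e0 => by
        have : 4 * 3 ≤ F2 * (F2 - 1) := Nat.mul_le_mul ha2 (by omega)
        rw [e0, mul_zero] at hc
        omega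
      by_contra hne2
      rcases Nat.lt_or_ge c 2 with hlt2 | hge2
      · obtain rfl : c = 1 := by omega
        have := Int.le_of_dvd (by norm_num) (dvd_neg.2 hcp)
        omega
      · have h4 := Int.le_of_dvd (by omega) hcp
        have h5 : (p + 1) * (p + 2) ≤ n * c :=
          Nat.mul_le_mul (succ_le_of_mod_eq_one hmod hn1) (by omega)
        have h6 : F2 * (F2 - 1) ≤ F2 * F2 := Nat.mul_le_mul_left _ (Nat.sub_le _ _)
        rw [hpa] at h5
        nlinarith
    rw [hc2, hn] at hc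
    rcases Nat.eq_zero_or_pos k with hk | hk
    · exact hn1 (by rw [hn, hk, pow_zero])
    obtain ⟨b, hb⟩ : ∃ b, F2 = 4 * b := by
      refine dvd_iff_exists_eq_mul_right.1 ?_
      rw [hF2]
      exact (Nat.pow_dvd_pow_iff_le_right (by norm_num : 1 < 2)).2
        (show 2 ≤ a from (Nat.pow_le_pow_iff_right (by norm_num : 1 < 2)).1 ha2)
    have hqk : q ^ k = 2 * b * (4 * b - 1) := by
      rw [hb] at hc
      linarith [show 4 * b * (4 * b - 1) = 2 * (2 * b * (4 * b - 1)) by ring]
    have hq2 : q = 2 := ((Nat.prime_dvd_prime_iff_eq Nat.prime_two hq).1 (Nat.prime_two.dvd_of_dvd_pow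
      (show 2 ∣ q ^ k by rw [hqk, mul_assoc]; exact dvd_mul_right 2 _))).symm
    subst hq2
    obtain ⟨i, -, hi⟩ := (Nat.dvd_prime_pow Nat.prime_two).1 (Dvd.intro_left _ hqk.symm)
    rcases i with _ | i
    · rw [pow_zero] at hi
      omega
    · rw [pow_succ] at hi
      omega
  · exact not_prime_pow_of_fform hmp hFF hq (hm.symm.trans hn)

/-- The converse direction. -/
theorem solvable_of_prime_pow (hp : ¬ (3 < p ∧ ∃ k : ℕ, p + 1 = 2 ^ k)) :
    ∀ (n : ℕ) (G : Type u) [Group G] [Finite G], Nat.card G = n → Nat.card (Sylow p G) < p ^ 2 →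
    ∀ q k : ℕ, q.Prime → Nat.card (Sylow p G) = q ^ k → Cfsg.IsPSolvable p G := by
  intro n
  induction n using Nat.strong_induction_on with
  | _ n ih =>
  intro G _ _ hn hlt q k hq hk
  have hpr := (Fact.out : p.Prime)
  by_cases hdvd : p ∣ Nat.card G
  swap
  · exact Cfsg.Lib.CyclicPair.isPSolvable_of_not_dvd hdvd
  have hquot : ∀ (N : Subgroup G) [N.Normal], N ≠ ⊥ → Cfsg.IsPSolvable p (G ⧸ N) := fun N _ hN => by
    obtain ⟨i, -, hi⟩ := (Nat.dvd_prime_pow hq).1 (hk ▸ card_sylow_quotient_dvd (p := p) N)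
    exact ih _ (hn ▸ Cfsg.Lib.Coprime.card_quotient_lt hN) (G ⧸ N) rfl
      ((Nat.le_of_dvd Nat.card_pos (card_sylow_quotient_dvd (p := p) N)).trans_lt hlt) q i hq hi
  by_cases hO : Cfsg.pCore p G = ⊥
  swap
  · have := Cfsg.Lib.Components.pCore_normal' (G := G) p
    exact Cfsg.Lib.Blocks.isPSolvable_extend _
      (Or.inl (Cfsg.Lib.Components.isPGroup_pCore p).exists_card_eq) (hquot _ hO)
  by_cases hK : Cfsg.pPrimeCore p G = ⊥
  swap
  · have := Cfsg.Lib.Components.pPrimeCore_normal' (G := G) p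
    exact Cfsg.Lib.Blocks.isPSolvable_extend _
      (Or.inr (Cfsg.Lib.Components.coprime_card_pPrimeCore p)) (hquot _ hK)
  exfalso
  by_cases hs : ∀ N : Subgroup G, N.Normal → N = ⊥ ∨ N = ⊤
  · have : Nontrivial G := Finite.one_lt_card_iff_nontrivial.1
      (lt_of_lt_of_le hpr.one_lt (Nat.le_of_dvd Nat.card_pos hdvd))
    have : IsSimpleGroup G := ⟨hs⟩
    refine false_of_simple (fun hc => ?_) hp hdvd hlt hq hk
    let _ : CommGroup G := IsCyclic.commGroup
    have hpp : (Nat.card G).Prime := IsSimpleGroup.prime_card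
    have hP : IsPGroup p G := IsPGroup.of_card (n := 1)
      (by rw [pow_one]; exact ((Nat.prime_dvd_prime_iff_eq hpr hpp).1 hdvd).symm)
    have htop := Cfsg.Lib.Components.le_pCore (G := G) (N := ⊤) (hP.to_subgroup ⊤)
    rw [hO] at htop
    exact absurd (le_bot_iff.1 htop) top_ne_bot
  push Not at hs
  obtain ⟨N, hN, hN0, hN1⟩ := hs
  obtain ⟨i, -, hi⟩ := (Nat.dvd_prime_pow hq).1 (hk ▸ card_sylow_normal_dvd (p := p) N)
  have hNsol := ih _ (hn ▸ lt_of_le_of_ne (Subgroup.card_le_card_group N)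
    fun e => hN1 (Subgroup.eq_top_of_card_eq N e)) N rfl
    ((Nat.le_of_dvd Nat.card_pos (card_sylow_normal_dvd (p := p) N)).trans_lt hlt) q i hq hi
  have : Nontrivial N := (Subgroup.nontrivial_iff_ne_bot N).2 hN0
  rcases Cfsg.Lib.GaschutzYen.exists_core_ne_bot hNsol with h | h
  · refine h (Subgroup.map_injective N.subtype_injective ?_)
    rw [Subgroup.map_bot, ← le_bot_iff, ← hO]
    exact Cfsg.Lib.Components.le_pCore ((Cfsg.Lib.Components.isPGroup_pCore p).map N.subtype)
  · refine h (Subgroup.map_injective N.subtype_injective ?_)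
    rw [Subgroup.map_bot, ← le_bot_iff, ← hK]
    refine Cfsg.Lib.Components.le_pPrimeCore ?_
    rw [Subgroup.card_map_of_injective N.subtype_injective]
    exact Cfsg.Lib.Components.coprime_card_pPrimeCore p

end Cfsg.Lib.SolvStruct.SylowNumber
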